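import Cfsg.Agent.LocalEvenD.AsymL.Pair
import Cfsg.Agent.LargeSub.FrakH
import Cfsg.Agent.Lib.Involution.BaerSuzuki

/-!
The asymmetric `L`-lemma.
-/

set_option autoImplicit false
set_option linter.unusedSectionVars false
set_option linter.style.haveILetI false

open Subgroup Cfsg Cfsg.Agent.LargeSub

namespace Cfsg.Agent.LocalEvenD

variable {G : Type*} [Group G] [Finite G] {p : ℕ} [Fact p.Prime]

/-- The minimality hypothesis on `L`. -/
structure AsymLData (p : ℕ) (S : Sylow p G) (Q M H L : Subgroup G) : Prop where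
  std : LargeSub.Std p S Q M
  asym : ¬ IsSymmetricIn (largestPReducedOf p M)
  frakH : IsInFrakH p M H
  le : L ≤ H
  mem : largestPReducedOf p M ≤ L
  not_le : ¬ largestPReducedOf p M ≤ pCoreOf p L
  min : ∀ L' : Subgroup G, L' ≤ L → largestPReducedOf p M ≤ L' →
    ¬ largestPReducedOf p M ≤ pCoreOf p L' → L' = L

namespace AsymLData

variable {S : Sylow p G} {Q M H L : Subgroup G}

local notation "Y" => largestPReducedOf p M
local notation "O" => pCoreOf p M
local notation "R" => pCoreOf p H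

theorem Y_comm (_c : AsymLData p S Q M H L) : ∀ a ∈ Y, ∀ b ∈ Y, a * b = b * a := by
  intro a ha b hb
  haveI := (isElementaryAbelian_largestPReducedOf (p := p) M).1
  exact setLike_mul_comm (s := Y) ha hb

theorem Y_le_H (c : AsymLData p S Q M H L) : Y ≤ H :=
  (largestPReducedOf_le_pCoreOf M).trans c.frakH.2.1

theorem R_le_normalizer (c : AsymLData p S Q M H L) : R ≤ normalizer (Y : Set G) :=
  (c.std.frakH_pCoreOf_le c.asym c.frakH).trans
    (c.std.normalizer_O_le.trans c.std.dagger_le_normalizer_Y)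

theorem R_le_normalizer_conj (c : AsymLData p S Q M H L) {x : G} (hx : x ∈ H) :
    R ≤ normalizer ((Y).map (MulAut.conj x).toMonoidHom : Set G) := by
  rw [← conj_normalizer]
  conv_lhs => rw [← conj_eq_of_mem_normalizer (le_normalizer_pCoreOf p H hx)]
  exact Subgroup.map_mono c.R_le_normalizer

theorem exists_pair (c : AsymLData p S Q M H L) : ∃ g, AsymPair Y R L g := by
  obtain ⟨g, hg, hnp⟩ : ∃ g ∈ L,
      ¬ IsPGroup p ↥(Y ⊔ (Y).map (MulAut.conj g).toMonoidHom) := by
    by_contra hall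
    push Not at hall
    apply c.not_le
    obtain ⟨N, hN, hNp, hYN⟩ := Involution.baerSuzuki_subgroup (p := p) ((Y).subgroupOf L)
      (fun g => by
        have e : ((Y).subgroupOf L ⊔ ((Y).subgroupOf L).map (MulAut.conj g).toMonoidHom).map
            L.subtype = Y ⊔ (Y).map (MulAut.conj (g : G)).toMonoidHom := by
          rw [Subgroup.map_sup, Subgroup.map_subgroupOf_eq_of_le c.mem, Subgroup.map_map,
            show L.subtype.comp (MulAut.conj g).toMonoidHom =
              (MulAut.conj (g : G)).toMonoidHom.comp L.subtype from MonoidHom.ext fun x => by simp,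
            ← Subgroup.map_map, Subgroup.map_subgroupOf_eq_of_le c.mem]
        refine (IsPGroup.iff_card).2 ?_
        rw [← Subgroup.card_map_of_injective L.subtype_injective, e]
        exact (IsPGroup.iff_card).1 (hall g g.2))
    haveI := hN
    intro y hy
    exact ⟨⟨y, c.mem hy⟩, Thompson.le_pCore hN hNp (hYN hy), rfl⟩
  set X := Y ⊔ (Y).map (MulAut.conj g).toMonoidHom with hX
  have hgX : (Y).map (MulAut.conj g).toMonoidHom ≤ L :=
    (Subgroup.map_mono c.mem).trans (conj_eq_of_mem hg).le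
  have hXL : X = L := by
    refine c.min X (sup_le c.mem hgX) le_sup_left fun hle => hnp ?_
    have hn : (Y).map (MulAut.conj g).toMonoidHom ≤ normalizer (pCoreOf p X : Set G) :=
      (le_sup_right : _ ≤ X).trans (le_normalizer_pCoreOf p X)
    refine (isPGroup_sup (isPGroup_conj (isPGroup_largestPReducedOf M) g) (isPGroup_pCoreOf X)
      hn).to_le ?_
    exact sup_le (hle.trans le_sup_right) le_sup_left
  exact ⟨g, hXL.symm, hg, c.Y_comm, c.R_le_normalizer, c.R_le_normalizer_conj (c.le hg),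
    c.le.trans (le_normalizer_pCoreOf p H)⟩

/-- The key step: an element of `L` moving `Y` into `C(Y)` normalizes `Y`. -/
theorem mem_normalizer_of_conj_le_centralizer (c : AsymLData p S Q M H L) {x : G} (hx : x ∈ L)
    (hc : (Y).map (MulAut.conj x).toMonoidHom ≤ centralizer (Y : Set G)) :
    x ∈ normalizer (Y : Set G) := by
  obtain ⟨g, hP⟩ := c.exists_pair
  obtain ⟨h0, hC⟩ := hP.conj_inf_eq hx hc
  set Y0 := Y ⊓ R with hY0
  set C := R ⊓ centralizer (Y : Set G) with hCdef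
  have hCeq : C = Y0 ⊔ (R ⊓ centralizer (L : Set G)) := hP.inf_centralizer_eq
  have hY0C : Y0 ≤ C := hCeq ▸ le_sup_left
  have hOC : O ≤ centralizer (Y : Set G) := pCoreOf_le_centralizer_largestPReducedOf M
  have hOH : O ≤ H := c.frakH.2.1
  have hxH : x ∈ H := c.le hx
  have hON : ∀ o ∈ O, o ∈ normalizer (C : Set G) := fun o ho =>
    le_normalizer_inf (hOH.trans (le_normalizer_pCoreOf p H))
      ((hOC.trans (centralizer_le_normalizer _)).trans (normalizer_le_normalizer_centralizer _)) ho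
  have hOY0 : ∀ o ∈ O, ∀ a ∈ Y0, o * a = a * o := fun o ho a ha =>
    (mem_centralizer_iff.1 (hOC ho) a ha.1).symm
  have hOR : ∀ o ∈ O, ∀ r ∈ R, r * o * r⁻¹ * o⁻¹ ∈ C := fun o ho r hr =>
    let hh := comm_mem_inf (c.R_le_normalizer.trans (normalizer_le_normalizer_centralizer _))
      (le_normalizer_pCoreOf p H (hOH ho)) hr (hOC ho)
    ⟨(mem_inf.1 hh).2, (mem_inf.1 hh).1⟩
  -- the elements acting on `R` like elements of `O`
  let B : Submonoid G :=
    { carrier := {z | z ∈ H ∧ (∀ a ∈ Y0, z * a = a * z) ∧ z ∈ normalizer (C : Set G) ∧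
        (∀ r ∈ R, r * z * r⁻¹ * z⁻¹ ∈ C) ∧
        ∃ o ∈ O, ∀ s ∈ C, z * s * z⁻¹ * (o * s * o⁻¹)⁻¹ ∈ Y0}
      one_mem' := ⟨one_mem _, fun a _ => by simp, one_mem _, fun r _ => by simp,
        1, one_mem _, fun s _ => by simp⟩
      mul_mem' := by
        rintro z w ⟨hz, hza, hzN, hzR, o, ho, hzo⟩ ⟨hw, hwa, hwN, hwR, o', ho', hwo⟩
        refine ⟨mul_mem hz hw, fun a ha => ?_, mul_mem hzN hwN, fun r hr => ?_,
          o * o', mul_mem ho ho', fun s hs => ?_⟩
        · rw [mul_assoc, hwa a ha, ← mul_assoc, hza a ha, mul_assoc]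
        · have e : r * (z * w) * r⁻¹ * (z * w)⁻¹ =
              (r * z * r⁻¹ * z⁻¹) * (z * (r * w * r⁻¹ * w⁻¹) * z⁻¹) := by group
          rw [e]
          exact mul_mem (hzR r hr) ((mem_normalizer_iff.1 hzN _).1 (hwR r hr))
        · have hs' : o' * s * o'⁻¹ ∈ C := (mem_normalizer_iff.1 (hON o' ho') s).1 hs
          have h1 := hwo s hs
          have h3 : z * (w * s * w⁻¹ * (o' * s * o'⁻¹)⁻¹) * z⁻¹ =
              w * s * w⁻¹ * (o' * s * o'⁻¹)⁻¹ := by rw [hza _ h1, mul_inv_cancel_right]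
          have e : z * w * s * (z * w)⁻¹ * (o * o' * s * (o * o')⁻¹)⁻¹ =
              (z * (w * s * w⁻¹ * (o' * s * o'⁻¹)⁻¹) * z⁻¹) *
                (z * (o' * s * o'⁻¹) * z⁻¹ * (o * (o' * s * o'⁻¹) * o⁻¹)⁻¹) := by group
          rw [e, h3]
          exact mul_mem h1 (hzo _ hs') }
  have hOB : ∀ o ∈ O, o ∈ B := fun o ho =>
    ⟨hOH ho, hOY0 o ho, hON o ho, hOR o ho, o, ho, fun s _ => by simp⟩
  have hxB : ∀ o ∈ O, x * o * x⁻¹ ∈ B := by
    intro o ho
    refine ⟨mul_mem (mul_mem hxH (hOH ho)) (inv_mem hxH), fun a ha => ?_,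
      mul_mem (mul_mem hC (hON o ho)) (inv_mem hC), fun r hr => ?_, o, ho, fun s hs => ?_⟩
    · have ha' := (mem_normalizer_iff''.1 h0 a).1 ha
      have h1 := hOY0 o ho _ ha'
      calc x * o * x⁻¹ * a = x * (o * (x⁻¹ * a * x)) * x⁻¹ := by group
        _ = x * ((x⁻¹ * a * x) * o) * x⁻¹ := by rw [h1]
        _ = a * (x * o * x⁻¹) := by group
    · have hr' := (mem_normalizer_iff''.1 (le_normalizer_pCoreOf p H hxH) r).1 hr
      have h1 := (mem_normalizer_iff.1 hC _).1 (hOR o ho _ hr')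
      simpa [mul_assoc] using h1
    · rw [hCeq] at hs
      obtain ⟨σ, hσ, e0, he0, rfl⟩ := exists_mul_of_mem_sup
        (A := R ⊓ centralizer (L : Set G)) (B := Y0)
        (le_normalizer_inf (inf_le_left.trans c.R_le_normalizer)
          (inf_le_left.trans le_normalizer)) (by rwa [sup_comm] at hs)
      have hσC : σ ∈ C := hCeq ▸ mem_sup_right hσ
      have ht : o * σ * o⁻¹ ∈ C := (mem_normalizer_iff.1 (hON o ho) σ).1 hσC
      rw [hCeq] at ht
      obtain ⟨τ, hτ, e1, he1, heq⟩ := exists_mul_of_mem_sup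
        (A := R ⊓ centralizer (L : Set G)) (B := Y0)
        (le_normalizer_inf (inf_le_left.trans c.R_le_normalizer)
          (inf_le_left.trans le_normalizer)) (by rwa [sup_comm] at ht)
      have hσx : x⁻¹ * σ * x = σ := by
        rw [mul_assoc, ← mem_centralizer_iff.1 hσ.2 x hx, inv_mul_cancel_left]
      have hτx : x * τ * x⁻¹ = τ := by
        rw [mem_centralizer_iff.1 hτ.2 x hx, mul_inv_cancel_right]
      have he0' := (mem_normalizer_iff''.1 h0 e0).1 he0
      have hoe : o * (x⁻¹ * e0 * x) * o⁻¹ = x⁻¹ * e0 * x := by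
        rw [hOY0 o ho _ he0', mul_inv_cancel_right]
      have hoe0 : o * e0 * o⁻¹ = e0 := by rw [hOY0 o ho _ he0, mul_inv_cancel_right]
      have e2 : x * o * x⁻¹ * (σ * e0) * (x * o * x⁻¹)⁻¹ = τ * (x * e1 * x⁻¹) * e0 := by
        calc x * o * x⁻¹ * (σ * e0) * (x * o * x⁻¹)⁻¹
            = x * ((o * (x⁻¹ * σ * x) * o⁻¹) * (o * (x⁻¹ * e0 * x) * o⁻¹)) * x⁻¹ := by group
          _ = x * ((τ * e1) * (x⁻¹ * e0 * x)) * x⁻¹ := by rw [hσx, hoe, heq]
          _ = (x * τ * x⁻¹) * (x * e1 * x⁻¹) * e0 := by group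
          _ = τ * (x * e1 * x⁻¹) * e0 := by rw [hτx]
      have e3 : o * (σ * e0) * o⁻¹ = τ * e1 * e0 := by
        calc o * (σ * e0) * o⁻¹ = (o * σ * o⁻¹) * (o * e0 * o⁻¹) := by group
          _ = τ * e1 * e0 := by rw [heq, hoe0]
      rw [e2, e3]
      have e4 : τ * (x * e1 * x⁻¹) * e0 * (τ * e1 * e0)⁻¹ =
          τ * ((x * e1 * x⁻¹) * e1⁻¹) * τ⁻¹ := by group
      rw [e4]
      exact (mem_normalizer_iff.1 (le_normalizer_inf c.R_le_normalizer le_normalizer hτ.1) _).1
        (mul_mem ((mem_normalizer_iff.1 h0 e1).1 he1) (inv_mem he1))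
  have hle : O ⊔ (O).map (MulAut.conj x).toMonoidHom ≤ Subgroup.closure (B : Set G) := by
    refine sup_le (fun o ho => subset_closure (hOB o ho)) ?_
    rintro _ ⟨o, ho, rfl⟩
    exact subset_closure (hxB o ho)
  have hmem : ∀ z ∈ O ⊔ (O).map (MulAut.conj x).toMonoidHom, z ∈ B := by
    intro z hz
    have h1 := hle hz
    rw [← Subgroup.mem_toSubmonoid, Subgroup.closure_toSubmonoid_of_finite,
      Submonoid.closure_eq] at h1
    exact h1
  have hpg : IsPGroup p ↥(O ⊔ (O).map (MulAut.conj x).toMonoidHom) := by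
    refine isPGroup_of_coprime_trivial fun z hz hzc => ?_
    obtain ⟨hzH, hza, hzN, hzR, o, ho, hzo⟩ := hmem z hz
    obtain ⟨k, hk⟩ := exists_pow_prime_pow_eq_one (isPGroup_pCoreOf M) ho
    have hpow : ∀ n : ℕ, ∀ s ∈ C, z ^ n * s * (z ^ n)⁻¹ * (o ^ n * s * (o ^ n)⁻¹)⁻¹ ∈ Y0 := by
      intro n
      induction n with
      | zero => intro s _; simp
      | succ n ih =>
        intro s hs
        have hs' : o ^ n * s * (o ^ n)⁻¹ ∈ C :=
          (mem_normalizer_iff.1 (pow_mem (hON o ho) n) s).1 hs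
        have h1 := ih s hs
        have h3 : z * (z ^ n * s * (z ^ n)⁻¹ * (o ^ n * s * (o ^ n)⁻¹)⁻¹) * z⁻¹ =
            z ^ n * s * (z ^ n)⁻¹ * (o ^ n * s * (o ^ n)⁻¹)⁻¹ := by
          rw [hza _ h1, mul_inv_cancel_right]
        have e : z ^ (n + 1) * s * (z ^ (n + 1))⁻¹ * (o ^ (n + 1) * s * (o ^ (n + 1))⁻¹)⁻¹ =
            (z * (z ^ n * s * (z ^ n)⁻¹ * (o ^ n * s * (o ^ n)⁻¹)⁻¹) * z⁻¹) *
              (z * (o ^ n * s * (o ^ n)⁻¹) * z⁻¹ *
                (o * (o ^ n * s * (o ^ n)⁻¹) * o⁻¹)⁻¹) := by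
          simp only [pow_succ']; group
        rw [e, h3]
        exact mul_mem h1 (hzo _ hs')
    set w := z ^ p ^ k with hw
    have hwc : (orderOf w).Coprime p := hzc.coprime_dvd_left (orderOf_pow_dvd _)
    have hwH : w ∈ H := pow_mem hzH _
    have hwa : ∀ a ∈ Y0, w * a = a * w := fun a ha =>
      ((show Commute z a from hza a ha).pow_left _).eq
    have hwCs : ∀ s ∈ C, s * w = w * s := by
      intro s hs
      have h1 := hpow (p ^ k) s hs
      rw [hk, ← hw] at h1
      have h2 : s * w * s⁻¹ * w⁻¹ ∈ Y0 := by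
        have h1' := inv_mem h1
        simpa [mul_assoc] using h1'
      exact commute_of_commutator_pElement hwc
        (exists_pow_prime_pow_eq_one ((isPGroup_largestPReducedOf M).to_inf_left) h2)
        (hwa _ h2).symm
    have hzRpow : ∀ n : ℕ, ∀ r ∈ R, r * z ^ n * r⁻¹ * (z ^ n)⁻¹ ∈ C := by
      intro n
      induction n with
      | zero => intro r _; simp
      | succ n ih =>
        intro r hr
        have e : r * z ^ (n + 1) * r⁻¹ * (z ^ (n + 1))⁻¹ =
            (r * z * r⁻¹ * z⁻¹) * (z * (r * z ^ n * r⁻¹ * (z ^ n)⁻¹) * z⁻¹) := by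
          simp only [pow_succ']; group
        rw [e]
        exact mul_mem (hzR r hr) ((mem_normalizer_iff.1 hzN _).1 (ih r hr))
    have hwR : w ∈ centralizer (R : Set G) := mem_centralizer_iff.2 fun r hr => by
      have h2 : r * w * r⁻¹ * w⁻¹ ∈ C := hzRpow _ r hr
      exact commute_of_commutator_pElement hwc
        (exists_pow_prime_pow_eq_one ((isPGroup_pCoreOf H).to_inf_left) h2)
        (hwCs _ h2)
    have hw1 : w = 1 := eq_one_of_pElement_of_coprime
      (exists_pow_prime_pow_eq_one (isPGroup_pCoreOf H)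
        (charP_iff.1 c.frakH.1 ⟨hwH, hwR⟩)) hwc
    exact eq_one_of_pElement_of_coprime ⟨k, hw1⟩ hzc
  have heq := c.std.asym_conj_eq c.asym hpg le_sup_left (g := x) le_sup_right
  exact c.std.dagger_le_normalizer_Y (c.std.normalizer_O_le (mem_normalizer_of_conj_eq heq))

theorem mem_normalizer_of_conj_le_normalizer (c : AsymLData p S Q M H L) {x : G} (hx : x ∈ L)
    (h1 : (Y).map (MulAut.conj x).toMonoidHom ≤ normalizer (Y : Set G))
    (h2 : (Y).map (MulAut.conj x⁻¹).toMonoidHom ≤ normalizer (Y : Set G)) :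
    x ∈ normalizer (Y : Set G) := by
  rw [c.std.normalizer_Y_eq] at h1 h2
  exact c.mem_normalizer_of_conj_le_centralizer hx (c.std.asym_commute_conj c.asym h1 h2)

/-- `N_L(Y)` contains every proper overgroup of `Y` in `L`. -/
theorem le_normalizer_of_lt (c : AsymLData p S Q M H L) {X : Subgroup G} (hYX : Y ≤ X)
    (hX : X < L) : X ≤ normalizer (Y : Set G) := by
  have hYA : Y ≤ pCoreOf p X := by
    by_contra hle
    exact hX.ne (c.min X hX.le hYX hle)
  by_cases hA : pCoreOf p X ≤ normalizer (Y : Set G)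
  · intro x hx
    refine c.mem_normalizer_of_conj_le_normalizer (hX.le hx) ?_ ?_ <;>
      refine le_trans (le_trans (Subgroup.map_mono hYA) (le_of_eq ?_)) hA
    · exact conj_eq_of_mem_normalizer (le_normalizer_pCoreOf p X hx)
    · exact conj_eq_of_mem_normalizer (le_normalizer_pCoreOf p X (inv_mem hx))
  · exfalso
    obtain ⟨a, haA, han, haN⟩ := exists_normalizer_not_mem (isPGroup_pCoreOf X)
      (lt_of_le_of_ne (inf_le_left : pCoreOf p X ⊓ normalizer (Y : Set G) ≤ _)
        fun he => hA (inf_eq_left.1 he))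
    refine han ⟨haA, c.mem_normalizer_of_conj_le_normalizer
      (hX.le (pCoreOf_le X haA)) ?_ ?_⟩
    · exact ((Subgroup.map_mono (le_inf hYA le_normalizer)).trans
        (conj_eq_of_mem_normalizer haN).le).trans inf_le_right
    · exact ((Subgroup.map_mono (le_inf hYA le_normalizer)).trans
        (conj_eq_of_mem_normalizer (inv_mem haN)).le).trans inf_le_right

theorem inf_normalizer_lt (c : AsymLData p S Q M H L) :
    L ⊓ normalizer (Y : Set G) < L := by
  refine lt_of_le_of_ne inf_le_left fun he => c.not_le ?_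
  exact le_pCoreOf c.mem (inf_eq_left.1 he) (isPGroup_largestPReducedOf M)

theorem eq_sup_conj (c : AsymLData p S Q M H L) {x : G} (hx : x ∈ L)
    (hn : x ∉ normalizer (Y : Set G)) : Y ⊔ (Y).map (MulAut.conj x).toMonoidHom = L := by
  have hle : ∀ z ∈ L, (Y).map (MulAut.conj z).toMonoidHom ≤ L := fun z hz =>
    (Subgroup.map_mono c.mem).trans (conj_eq_of_mem hz).le
  by_contra hne
  have hlt := lt_of_le_of_ne (sup_le c.mem (hle x hx)) hne
  refine hn (c.mem_normalizer_of_conj_le_normalizer hx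
    (le_sup_right.trans (c.le_normalizer_of_lt le_sup_left hlt)) ?_)
  have hlt' : Y ⊔ (Y).map (MulAut.conj x⁻¹).toMonoidHom < L := by
    refine lt_of_le_of_ne (sup_le c.mem (hle _ (inv_mem hx))) fun he => hne ?_
    have h1 := congrArg (fun X : Subgroup G => X.map (MulAut.conj x).toMonoidHom) he
    simp only [Subgroup.map_sup] at h1
    rw [conj_conj_inv, conj_eq_of_mem hx, sup_comm] at h1
    exact h1
  exact le_sup_right.trans (c.le_normalizer_of_lt le_sup_left hlt')

theorem sup_O_eq (c : AsymLData p S Q M H L) : L ⊔ O = H := by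
  by_contra hne
  have hlt := lt_of_le_of_ne (sup_le c.le c.frakH.2.1) hne
  exact c.not_le ((le_inf (c.frakH.2.2.2 _ le_sup_right hlt) c.mem).trans
    (pCoreOf_inf_le le_sup_left))

theorem normalClosure_eq_top (c : AsymLData p S Q M H L) :
    normalClosure (((Y).subgroupOf L : Subgroup L) : Set L) = ⊤ := by
  obtain ⟨g, hP⟩ := c.exists_pair
  apply Subgroup.map_injective L.subtype_injective
  rw [normalClosure_map_eq_iSup c.mem, ← MonoidHom.range_eq_map, Subgroup.range_subtype]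
  refine le_antisymm (iSup_conj_le c.mem) ?_
  conv_lhs => rw [hP.gen]
  exact sup_le (le_iSup_conj L _)
    (le_iSup (fun h : L => (Y).map (MulAut.conj (h : G)).toMonoidHom) ⟨g, hP.mem⟩)

theorem isMinimalOver (c : AsymLData p S Q M H L) : IsMinimalOver ((Y).subgroupOf L) := by
  refine ⟨c.normalClosure_eq_top, (L ⊓ normalizer (Y : Set G)).subgroupOf L, ⟨⟨?_, ?_⟩, ?_⟩, ?_⟩
  · intro he
    rw [Subgroup.subgroupOf_eq_top] at he
    exact not_le_of_gt c.inf_normalizer_lt he
  · intro X hX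
    by_contra hne
    have hlt : X.map L.subtype < L := lt_of_le_of_ne (map_subtype_le X) fun he => hne <|
      Subgroup.map_injective L.subtype_injective
        (by rw [he, ← MonoidHom.range_eq_map, Subgroup.range_subtype])
    have hYX : Y ≤ X.map L.subtype := fun y hy =>
      ⟨⟨y, c.mem hy⟩, hX.le (show (⟨y, c.mem hy⟩ : L) ∈ (L ⊓ normalizer (Y : Set G)).subgroupOf L from ⟨c.mem hy, le_normalizer hy⟩), rfl⟩
    refine not_le_of_gt hX fun z hz => ⟨z.2, ?_⟩
    exact c.le_normalizer_of_lt hYX hlt ⟨z, hz, rfl⟩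
  · exact fun y hy => show (y : G) ∈ L ⊓ normalizer (Y : Set G) from ⟨y.2, le_normalizer hy⟩
  · rintro X ⟨hX, hYX⟩
    have hlt : X.map L.subtype < L := lt_of_le_of_ne (map_subtype_le X) fun he => hX.1 <|
      Subgroup.map_injective L.subtype_injective
        (by rw [he, ← MonoidHom.range_eq_map, Subgroup.range_subtype])
    have hYX' : Y ≤ X.map L.subtype := fun y hy =>
      ⟨⟨y, c.mem hy⟩, hYX (Subgroup.mem_subgroupOf.2 hy), rfl⟩
    have hle : X ≤ (L ⊓ normalizer (Y : Set G)).subgroupOf L := fun z hz =>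
      ⟨z.2, c.le_normalizer_of_lt hYX' hlt ⟨z, hz, rfl⟩⟩
    rcases lt_or_eq_of_le hle with h | h
    · exfalso
      have h2 := hX.2 _ h
      rw [Subgroup.subgroupOf_eq_top] at h2
      exact not_le_of_gt c.inf_normalizer_lt h2
    · exact h

theorem charP (c : AsymLData p S Q M H L) :
    L ⊓ centralizer (pCoreOf p L : Set G) ≤ pCoreOf p L := by
  obtain ⟨g, hP⟩ := c.exists_pair
  have hRL : R ≤ normalizer (L : Set G) := by
    rw [hP.gen]
    exact le_normalizer_sup hP.norm hP.norm'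
  have hLR : L ≤ normalizer (R : Set G) := hP.act
  refine le_pCoreOf inf_le_left (le_normalizer_inf le_normalizer
    ((le_normalizer_pCoreOf p L).trans (normalizer_le_normalizer_centralizer _)))
    (isPGroup_of_coprime_trivial fun d hd hcop => ?_)
  have hdR : d ∈ H ⊓ centralizer (R : Set G) := by
    refine ⟨c.le hd.1, mem_centralizer_iff.2 fun r hr => ?_⟩
    have hh := comm_mem_inf hRL (hLR hd.1) hr hd.1
    refine commute_of_commutator_pElement (p := p) hcop ?_ ?_
    · exact exists_pow_prime_pow_eq_one (isPGroup_pCoreOf H) (mem_inf.1 hh).2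
    · exact mem_centralizer_iff.1 hd.2 _ ((le_pCoreOf inf_le_left
        (le_normalizer_inf le_normalizer hLR) (isPGroup_pCoreOf H).to_inf_right) hh)
  exact eq_one_of_pElement_of_coprime
    (exists_pow_prime_pow_eq_one (isPGroup_pCoreOf H) (charP_iff.1 c.frakH.1 hdR)) hcop

/-- `Y ∩ O_p(L) ≤ O_p(H)`. -/
theorem inf_pCoreOf_le (c : AsymLData p S Q M H L) : pCoreOf p L ⊓ Y ≤ R := by
  obtain ⟨g, hP⟩ := c.exists_pair
  set W := pCoreOf p L with hW
  have hWN : ∀ z ∈ L, W ≤ normalizer ((Y).map (MulAut.conj z).toMonoidHom : Set G) := by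
    have hW1 : W ≤ normalizer (Y : Set G) := by
      refine le_trans le_sup_right (c.le_normalizer_of_lt (X := Y ⊔ W) le_sup_left ?_)
      refine lt_of_le_of_ne (sup_le c.mem (pCoreOf_le L)) fun he => c.not_le ?_
      have hp : IsPGroup p ↥L := he ▸ isPGroup_sup (isPGroup_largestPReducedOf M)
        (isPGroup_pCoreOf L) (c.mem.trans (le_normalizer_pCoreOf p L))
      exact c.mem.trans (le_pCoreOf le_rfl le_normalizer hp)
    intro z hz
    rw [← conj_normalizer]
    conv_lhs => rw [hW, ← conj_eq_of_mem_normalizer (le_normalizer_pCoreOf p L hz)]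
    exact Subgroup.map_mono hW1
  set Y1 := (Y).map (MulAut.conj g).toMonoidHom ⊓ R with hY1
  set D := (Y ⊓ R) ⊓ Y1 with hD
  set C := R ⊓ centralizer (Y : Set G) with hC
  set U := ((Y ⊓ R) ⊔ Y1) ⊔ C with hU
  have hOC : O ≤ centralizer (Y : Set G) := pCoreOf_le_centralizer_largestPReducedOf M
  have hOH : O ≤ H := c.frakH.2.1
  have hCn : O ≤ normalizer (C : Set G) :=
    le_normalizer_inf (hOH.trans (le_normalizer_pCoreOf p H))
      ((hOC.trans (centralizer_le_normalizer _)).trans (normalizer_le_normalizer_centralizer _))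
  have hOR : ∀ o ∈ O, ∀ r ∈ R, r * o * r⁻¹ * o⁻¹ ∈ C := fun o ho r hr =>
    let hh := comm_mem_inf (c.R_le_normalizer.trans (normalizer_le_normalizer_centralizer _))
      (le_normalizer_pCoreOf p H (hOH ho)) hr (hOC ho)
    ⟨(mem_inf.1 hh).2, (mem_inf.1 hh).1⟩
  have hUR : U ≤ R := sup_le (sup_le inf_le_right inf_le_right) inf_le_left
  have hUn : H ≤ normalizer (U : Set G) := by
    rw [← c.sup_O_eq]
    refine sup_le (fun l hl => ?_) (fun o ho => ?_) <;> apply mem_normalizer_of_conj_le <;>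
      rw [hU, Subgroup.map_sup]
    · refine sup_le ?_ ?_
      · exact (conj_eq_of_mem_normalizer (hP.le_normalizer_V₀ hl)).le.trans le_sup_left
      · rintro _ ⟨s, hs, rfl⟩
        show l * s * l⁻¹ ∈ _
        have h1 := inv_mem (hP.comm_mem_V₀ s hs.1 l hl)
        have e : l * s * l⁻¹ = (s * l * s⁻¹ * l⁻¹)⁻¹ * s := by group
        rw [e]
        exact mul_mem (mem_sup_left h1) (mem_sup_right hs)
    · refine sup_le ?_ ((conj_eq_of_mem_normalizer (hCn ho)).le.trans le_sup_right)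
      rintro _ ⟨v, hv, rfl⟩
      show o * v * o⁻¹ ∈ _
      have hvR : v ∈ R := (sup_le inf_le_right inf_le_right : (Y ⊓ R) ⊔ Y1 ≤ R) hv
      have e : o * v * o⁻¹ = (v * o * v⁻¹ * o⁻¹)⁻¹ * v := by group
      rw [e]
      exact mul_mem (mem_sup_right (inv_mem (hOR o ho v hvR))) (mem_sup_left hv)
  have hRU : ∀ r ∈ R, ∀ z ∈ H, r * z * r⁻¹ * z⁻¹ ∈ U := by
    let K : Subgroup G :=
      { carrier := {z | z ∈ H ∧ ∀ r ∈ R, r * z * r⁻¹ * z⁻¹ ∈ U}
        one_mem' := ⟨one_mem _, fun r _ => by simp⟩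
        mul_mem' := by
          rintro a b ⟨ha, ha'⟩ ⟨hb, hb'⟩
          refine ⟨mul_mem ha hb, fun r hr => ?_⟩
          have e : r * (a * b) * r⁻¹ * (a * b)⁻¹ =
              (r * a * r⁻¹ * a⁻¹) * (a * (r * b * r⁻¹ * b⁻¹) * a⁻¹) := by group
          rw [e]
          exact mul_mem (ha' r hr) ((mem_normalizer_iff.1 (hUn ha) _).1 (hb' r hr))
        inv_mem' := by
          rintro a ⟨ha, ha'⟩
          refine ⟨inv_mem ha, fun r hr => ?_⟩
          have e : r * a⁻¹ * r⁻¹ * a⁻¹⁻¹ = a⁻¹ * (r * a * r⁻¹ * a⁻¹)⁻¹ * a := by group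
          rw [e]
          exact (mem_normalizer_iff''.1 (hUn ha) _).1 (inv_mem (ha' r hr)) }
    have hK : L ⊔ O ≤ K := sup_le
      (fun l hl => ⟨c.le hl, fun r hr => mem_sup_left (hP.comm_mem_V₀ r hr l hl)⟩)
      (fun o ho => ⟨hOH ho, fun r hr => mem_sup_right (hOR o ho r hr)⟩)
    rw [c.sup_O_eq] at hK
    exact fun r hr z hz => (hK hz).2 r hr
  have hDH : ∀ d ∈ D, ∀ z ∈ H, z * d = d * z := by
    intro d hd z hz
    have h2 : H ≤ centralizer ({d} : Set G) := by
      rw [← c.sup_O_eq]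
      refine sup_le ?_ (fun o ho => mem_centralizer_singleton_iff.2
        (mem_centralizer_iff.1 (hOC ho) d hd.1.1).symm)
      intro l hl
      refine mem_centralizer_singleton_iff.2 (mem_centralizer_iff.1
        (hP.mem_centralizer_L (hP.Y_le_centralizer hd.1.1)
          (mem_centralizer_iff.2 fun b hb => hP.comm' b hb d hd.2.1)) l hl)
    exact mem_centralizer_singleton_iff.1 (h2 hz)
  let K : Subgroup G :=
    { carrier := {z | z ∈ H ∧ ∀ u ∈ U, u * z * u⁻¹ * z⁻¹ ∈ D}
      one_mem' := ⟨one_mem _, fun r _ => by simp⟩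
      mul_mem' := by
        rintro a b ⟨ha, ha'⟩ ⟨hb, hb'⟩
        refine ⟨mul_mem ha hb, fun u hu => ?_⟩
        have h3 : a * (u * b * u⁻¹ * b⁻¹) * a⁻¹ = u * b * u⁻¹ * b⁻¹ := by
          rw [hDH _ (hb' u hu) a ha, mul_inv_cancel_right]
        have e : u * (a * b) * u⁻¹ * (a * b)⁻¹ =
            (u * a * u⁻¹ * a⁻¹) * (a * (u * b * u⁻¹ * b⁻¹) * a⁻¹) := by group
        rw [e, h3]
        exact mul_mem (ha' u hu) (hb' u hu)
      inv_mem' := by
        rintro a ⟨ha, ha'⟩
        refine ⟨inv_mem ha, fun u hu => ?_⟩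
        have e : u * a⁻¹ * u⁻¹ * a⁻¹⁻¹ = a⁻¹ * (u * a * u⁻¹ * a⁻¹)⁻¹ * a := by group
        rw [e, hDH _ (inv_mem (ha' u hu)) a⁻¹ (inv_mem ha), inv_mul_cancel_right]
        exact inv_mem (ha' u hu) }
  have hKR : K ≤ R := by
    refine le_pCoreOf (fun z hz => hz.1) (fun z hz => ?_)
      (isPGroup_of_coprime_trivial fun d hd hcop => ?_)
    · refine mem_normalizer_of_conj_le ?_
      rintro _ ⟨k, ⟨hk, hk'⟩, rfl⟩
      refine ⟨mul_mem (mul_mem hz hk) (inv_mem hz), fun u hu => ?_⟩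
      show u * (z * k * z⁻¹) * u⁻¹ * (z * k * z⁻¹)⁻¹ ∈ D
      have h1 := hk' _ ((mem_normalizer_iff''.1 (hUn hz) u).1 hu)
      have e : u * (z * k * z⁻¹) * u⁻¹ * (z * k * z⁻¹)⁻¹ =
          z * ((z⁻¹ * u * z) * k * (z⁻¹ * u * z)⁻¹ * k⁻¹) * z⁻¹ := by group
      rw [e, hDH _ h1 z hz, mul_inv_cancel_right]
      exact h1
    · have hdU : ∀ u ∈ U, u * d = d * u := fun u hu =>
        commute_of_commutator_pElement hcop
          (exists_pow_prime_pow_eq_one
            (((isPGroup_largestPReducedOf M).to_inf_left).to_inf_left) (hd.2 u hu))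
          (hDH _ (hd.2 u hu) d hd.1).symm
      have hdR : d ∈ H ⊓ centralizer (R : Set G) :=
        ⟨hd.1, mem_centralizer_iff.2 fun r hr => commute_of_commutator_pElement hcop
          (exists_pow_prime_pow_eq_one (isPGroup_pCoreOf H) (hUR (hRU r hr d hd.1)))
          (hdU _ (hRU r hr d hd.1))⟩
      exact eq_one_of_pElement_of_coprime
        (exists_pow_prime_pow_eq_one (isPGroup_pCoreOf H) (charP_iff.1 c.frakH.1 hdR)) hcop
  rintro y ⟨hyW, hy⟩
  have hyH : y ∈ H := c.Y_le_H hy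
  refine hKR ⟨hyH, ?_⟩
  let T : Subgroup G :=
    { carrier := {u | u ∈ U ∧ u * y * u⁻¹ * y⁻¹ ∈ D}
      one_mem' := ⟨one_mem _, by simp⟩
      mul_mem' := by
        rintro a b ⟨ha, ha'⟩ ⟨hb, hb'⟩
        refine ⟨mul_mem ha hb, ?_⟩
        have h3 : a * (b * y * b⁻¹ * y⁻¹) * a⁻¹ = b * y * b⁻¹ * y⁻¹ := by
          rw [hDH _ hb' a (pCoreOf_le H (hUR ha)), mul_inv_cancel_right]
        have e : (a * b) * y * (a * b)⁻¹ * y⁻¹ =
            (a * (b * y * b⁻¹ * y⁻¹) * a⁻¹) * (a * y * a⁻¹ * y⁻¹) := by group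
        rw [e, h3]
        exact mul_mem hb' ha'
      inv_mem' := by
        rintro a ⟨ha, ha'⟩
        refine ⟨inv_mem ha, ?_⟩
        have e : a⁻¹ * y * a⁻¹⁻¹ * y⁻¹ = a⁻¹ * (a * y * a⁻¹ * y⁻¹)⁻¹ * a := by group
        rw [e, hDH _ (inv_mem ha') a⁻¹ (inv_mem (pCoreOf_le H (hUR ha))), inv_mul_cancel_right]
        exact inv_mem ha' }
  have hcen : ∀ u ∈ U, u ∈ centralizer (Y : Set G) → u ∈ T := fun u hu hc => by
    refine ⟨hu, ?_⟩
    rw [← mem_centralizer_iff.1 hc y hy, mul_inv_cancel_right, mul_inv_cancel]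
    exact one_mem _
  have hUT : U ≤ T := by
    refine sup_le (sup_le ?_ ?_) ?_
    · exact fun u hu =>
        hcen u (mem_sup_left (mem_sup_left hu)) (hP.Y_le_centralizer hu.1)
    · intro f hf
      refine ⟨mem_sup_left (mem_sup_right hf), ?_⟩
      have h1 := comm_mem_inf hP.norm (le_normalizer_pCoreOf p H hyH) hf.2 hy
      refine mem_inf.2 ⟨h1, mem_inf.2 ⟨?_, (mem_inf.1 h1).2⟩⟩
      have h2 := (mem_normalizer_iff.1 (hWN g hP.mem hyW) f⁻¹).1 (inv_mem hf.1)
      simpa [mul_assoc] using mul_mem hf.1 h2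
    · exact fun u hu => hcen u (mem_sup_right hu) hu.2
  exact fun u hu => (hUT hu).2

/-- `O^p(L)` acts nontrivially on every noncentral `H`-chief factor in `O_p(H)`. -/
theorem not_commutator_le (c : AsymLData p S Q M H L) (V W : Subgroup G) (hV : V ≤ R)
    (hVn : H ≤ normalizer (V : Set G)) (hWn : H ≤ normalizer (W : Set G)) (hWV : W < V)
    (hirr : ∀ Z : Subgroup G, H ≤ normalizer (Z : Set G) → W ≤ Z → Z ≤ V → Z = W ∨ Z = V)
    (hnc : ¬ ⁅V, H⁆ ≤ W) : ¬ ⁅V, (pResidual p ↥L).map L.subtype⁆ ≤ W := by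
  intro hle
  set RL := (pResidual p ↥L).map L.subtype with hRL
  have hOH : O ≤ H := c.frakH.2.1
  have hLsup : L ≤ RL ⊔ Y := by
    set π := QuotientGroup.mk' (pResidual p ↥L) with hπ
    have hnil : Group.IsNilpotent (↥L ⧸ pResidual p ↥L) :=
      (Thompson.isPGroup_quotient_pResidual (p := p) (G := ↥L)).isNilpotent
    have htop : normalClosure ((((Y).subgroupOf L).map π : Subgroup (↥L ⧸ pResidual p ↥L)) :
        Set (↥L ⧸ pResidual p ↥L)) = ⊤ := by
      rw [Subgroup.coe_map, ← Subgroup.map_normalClosure _ π (QuotientGroup.mk'_surjective _),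
        c.normalClosure_eq_top, ← MonoidHom.range_eq_map,
        MonoidHom.range_eq_top.2 (QuotientGroup.mk'_surjective _)]
    have h2 := eq_top_of_normalClosure_eq_top hnil htop
    intro z hz
    obtain ⟨o, ho, he⟩ : π ⟨z, hz⟩ ∈ ((Y).subgroupOf L).map π := h2 ▸ Subgroup.mem_top _
    rw [hπ, QuotientGroup.mk'_apply, QuotientGroup.mk'_apply, QuotientGroup.eq] at he
    have h3 : (o : G) * ((o : G)⁻¹ * z) ∈ RL ⊔ Y :=
      mul_mem (Subgroup.mem_sup_right ho) (Subgroup.mem_sup_left ⟨_, he, by simp⟩)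
    rwa [mul_inv_cancel_left] at h3
  have hHsup : H = RL ⊔ O := by
    refine le_antisymm ?_ (sup_le ((map_subtype_le _).trans c.le) hOH)
    conv_lhs => rw [← c.sup_O_eq]
    exact sup_le (hLsup.trans (sup_le_sup_left (largestPReducedOf_le_pCoreOf M) _)) le_sup_right
  have hRLH : RL ≤ H := hHsup ▸ le_sup_left
  set U := W ⊔ ⁅V, O⁆ with hU
  have hOV : O ≤ normalizer (V : Set G) := hOH.trans hVn
  have hUV : U ≤ V := sup_le hWV.le (commutator_le_left_of_le_normalizer hOV)
  have hUn : H ≤ normalizer (U : Set G) := by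
    rw [hHsup]
    refine sup_le (fun z hz => mem_normalizer_of_conj_le ?_)
      (le_normalizer_sup (hOH.trans hWn) (fun o ho => mem_normalizer_of_conj_eq (by
        rw [Subgroup.map_commutator, conj_eq_of_mem_normalizer (hOV ho), conj_eq_of_mem ho])))
    rintro _ ⟨u, hu, rfl⟩
    show z * u * z⁻¹ ∈ U
    have h1 : u⁻¹ * z * u⁻¹⁻¹ * z⁻¹ ∈ W :=
      hle (commutator_mem_commutator (inv_mem (hUV hu)) hz)
    have h2 : u * (u⁻¹ * z * u⁻¹⁻¹ * z⁻¹) ∈ U := mul_mem hu (mem_sup_left h1)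
    simpa [mul_assoc] using h2
  have hVH : ⁅V, H⁆ ≤ U := by
    rw [Subgroup.commutator_le]
    intro v hv
    let K : Subgroup G :=
      { carrier := {z | z ∈ H ∧ v * z * v⁻¹ * z⁻¹ ∈ U}
        one_mem' := ⟨one_mem _, by simp⟩
        mul_mem' := by
          rintro a b ⟨ha, ha'⟩ ⟨hb, hb'⟩
          refine ⟨mul_mem ha hb, ?_⟩
          have e : v * (a * b) * v⁻¹ * (a * b)⁻¹ =
              (v * a * v⁻¹ * a⁻¹) * (a * (v * b * v⁻¹ * b⁻¹) * a⁻¹) := by group
          rw [e]
          exact mul_mem ha' ((mem_normalizer_iff.1 (hUn ha) _).1 hb')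
        inv_mem' := by
          rintro a ⟨ha, ha'⟩
          refine ⟨inv_mem ha, ?_⟩
          have e : v * a⁻¹ * v⁻¹ * a⁻¹⁻¹ = a⁻¹ * (v * a * v⁻¹ * a⁻¹)⁻¹ * a := by group
          rw [e]
          exact (mem_normalizer_iff''.1 (hUn ha) _).1 (inv_mem ha') }
    have hK : H ≤ K := by
      rw [hHsup]
      exact sup_le
        (fun z hz => ⟨hRLH hz, mem_sup_left (hle (commutator_mem_commutator hv hz))⟩)
        (fun z hz => ⟨hOH hz, mem_sup_right (commutator_mem_commutator hv hz)⟩)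
    exact fun z hz => (hK hz).2
  have hUeq : U = V := (hirr U hUn le_sup_left hUV).resolve_left fun he => hnc (he ▸ hVH)
  -- nilpotency of `V O`
  set T := V ⊔ O with hT
  have hTp : IsPGroup p ↥T := by
    rw [hT, sup_comm]
    exact isPGroup_sup (isPGroup_pCoreOf M) ((isPGroup_pCoreOf H).to_le hV) hOV
  haveI : (W.subgroupOf T).Normal := LargeSub.normal_subgroupOf_of_le_normalizer
    (sup_le ((hV.trans (pCoreOf_le H)).trans hWn) (hOH.trans hWn))
  haveI := (hTp.to_quotient (W.subgroupOf T)).isNilpotent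
  set π := QuotientGroup.mk' (W.subgroupOf T) with hπ
  have hstep : ∀ n, (V.subgroupOf T).map π ≤
      (⊤ : Subgroup (↥T ⧸ W.subgroupOf T)).lowerCentralSeries n := by
    intro n
    induction n with
    | zero => simp
    | succ n ih =>
      have h1 : (V.subgroupOf T).map π ≤ ⁅(V.subgroupOf T).map π, ((O).subgroupOf T).map π⁆ := by
        rw [← Subgroup.map_commutator]
        rintro _ ⟨⟨v, hvT⟩, hv, rfl⟩
        have hv' : v ∈ U := hUeq ▸ hv
        obtain ⟨w, hw, k, hk, rfl⟩ : ∃ w ∈ W, ∃ k ∈ ⁅V, O⁆, v = k * w := by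
          have hn : ⁅V, O⁆ ≤ normalizer (W : Set G) :=
            ((commutator_le_left_of_le_normalizer hOV).trans (hV.trans (pCoreOf_le H))).trans hWn
          obtain ⟨k, hk, w, hw, he⟩ := exists_mul_of_mem_sup hn (by rwa [hU, sup_comm] at hv')
          exact ⟨w, hw, k, hk, he⟩
        have hkT : k ∈ T := mem_sup_left (commutator_le_left_of_le_normalizer hOV hk)
        have hk' : (⟨k, hkT⟩ : ↥T) ∈ ⁅V.subgroupOf T, (O).subgroupOf T⁆ := by
          have e : ⁅V.subgroupOf T, (O).subgroupOf T⁆.map T.subtype = ⁅V, O⁆ := by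
            rw [Subgroup.map_commutator, Subgroup.map_subgroupOf_eq_of_le le_sup_left,
              Subgroup.map_subgroupOf_eq_of_le le_sup_right]
          obtain ⟨k', hk', hkk⟩ := e.ge hk
          rwa [show (⟨k, hkT⟩ : ↥T) = k' from Subtype.ext hkk.symm]
        refine ⟨⟨k, hkT⟩, hk', ?_⟩
        rw [hπ, QuotientGroup.mk'_apply, QuotientGroup.mk'_apply, QuotientGroup.eq,
          Subgroup.mem_subgroupOf]
        simpa using hw
      refine h1.trans ?_
      rw [Subgroup.lowerCentralSeries_succ]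
      exact commutator_mono ih le_top
  obtain ⟨n, hn⟩ := Subgroup.nilpotent_iff_lowerCentralSeries.1
    (inferInstance : Group.IsNilpotent (↥T ⧸ W.subgroupOf T))
  have h0 := hstep n
  rw [hn, le_bot_iff, Subgroup.map_eq_bot_iff, QuotientGroup.ker_mk'] at h0
  exact not_le_of_gt hWV fun v hv =>
    h0 (show (⟨v, mem_sup_left hv⟩ : ↥T) ∈ V.subgroupOf T from hv)

end AsymLData

end Cfsg.Agent.LocalEvenD
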