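import Cfsg.Agent.LargeSub.Basic

/-!
Two conjugates `Y`, `Y^g` of an abelian subgroup generating `L`, all acting on a subgroup `R`
which normalizes both conjugates.
-/

set_option autoImplicit false
set_option linter.unusedSectionVars false

open Subgroup Cfsg Cfsg.Agent.LargeSub

namespace Cfsg.Agent.LocalEvenD

variable {G : Type*} [Group G] [Finite G]

/-- Data of an asymmetric pair. -/
structure AsymPair (Y R L : Subgroup G) (g : G) : Prop where
  gen : L = Y ⊔ Y.map (MulAut.conj g).toMonoidHom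
  mem : g ∈ L
  comm : ∀ a ∈ Y, ∀ b ∈ Y, a * b = b * a
  norm : R ≤ normalizer (Y : Set G)
  norm' : R ≤ normalizer (Y.map (MulAut.conj g).toMonoidHom : Set G)
  act : L ≤ normalizer (R : Set G)

theorem comm_mem_inf {A R : Subgroup G} {r a : G} (hR : R ≤ normalizer (A : Set G))
    (hA : a ∈ normalizer (R : Set G)) (hr : r ∈ R) (ha : a ∈ A) :
    r * a * r⁻¹ * a⁻¹ ∈ A ⊓ R := by
  refine Subgroup.mem_inf.2 ⟨mul_mem ((mem_normalizer_iff.1 (hR hr) a).1 ha) (inv_mem ha), ?_⟩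
  have h1 := mul_mem hr ((mem_normalizer_iff.1 hA r⁻¹).1 (inv_mem hr))
  simpa [mul_assoc] using h1

namespace AsymPair

variable {Y R L : Subgroup G} {g : G}

local notation "Y₀" => (Y ⊓ R : Subgroup G)
local notation "Y₁" => (Subgroup.map (MulEquiv.toMonoidHom (MulAut.conj g)) Y ⊓ R : Subgroup G)
local notation "V₀" => (Y₀ ⊔ Y₁ : Subgroup G)

theorem Y_le (h : AsymPair Y R L g) : Y ≤ L := h.gen ▸ le_sup_left

theorem Yg_le (h : AsymPair Y R L g) : Y.map (MulAut.conj g).toMonoidHom ≤ L :=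
  h.gen ▸ le_sup_right

theorem Y_le_centralizer (h : AsymPair Y R L g) : Y ≤ centralizer (Y : Set G) :=
  fun a ha => mem_centralizer_iff.2 fun b hb => h.comm b hb a ha

theorem conj_R (h : AsymPair Y R L g) {x : G} (hx : x ∈ L) :
    R.map (MulAut.conj x).toMonoidHom = R :=
  conj_eq_of_mem_normalizer (h.act hx)

theorem Y₁_eq (h : AsymPair Y R L g) : Y₁ = Subgroup.map (MulAut.conj g).toMonoidHom Y₀ := by
  rw [conj_inf, h.conj_R h.mem]

theorem comm' (h : AsymPair Y R L g) :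
    ∀ a ∈ Y.map (MulAut.conj g).toMonoidHom, ∀ b ∈ Y.map (MulAut.conj g).toMonoidHom,
      a * b = b * a := by
  rintro _ ⟨a, ha, rfl⟩ _ ⟨b, hb, rfl⟩
  rw [← map_mul, ← map_mul, h.comm a ha b hb]

theorem conj_V₀_of_mem_Y (h : AsymPair Y R L g) {y : G} (hy : y ∈ Y) :
    y ∈ normalizer ((V₀ : Subgroup G) : Set G) := by
  have hyR : y ∈ normalizer (R : Set G) := h.act (h.Y_le hy)
  apply mem_normalizer_of_conj_le
  rw [Subgroup.map_sup]
  refine sup_le (le_trans ?_ le_sup_left) ?_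
  · rintro _ ⟨a, ⟨ha, haR⟩, rfl⟩
    show y * a * y⁻¹ ∈ Y₀
    exact Subgroup.mem_inf.2 ⟨mul_mem (mul_mem hy ha) (inv_mem hy), (mem_normalizer_iff.1 hyR a).1 haR⟩
  · rintro _ ⟨v, hv, rfl⟩
    show y * v * y⁻¹ ∈ V₀
    have h1 := inv_mem (comm_mem_inf h.norm hyR hv.2 hy)
    have e : y * v * y⁻¹ = (v * y * v⁻¹ * y⁻¹)⁻¹ * v := by group
    rw [e]
    exact mul_mem (mem_sup_left h1) (mem_sup_right hv)

theorem le_normalizer_V₀ (h : AsymPair Y R L g) : L ≤ normalizer ((V₀ : Subgroup G) : Set G) := by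
  rw [h.gen]
  refine sup_le (fun y hy => h.conj_V₀_of_mem_Y hy) fun y hy => ?_
  have hyR : y ∈ normalizer (R : Set G) := h.act (h.Yg_le hy)
  apply mem_normalizer_of_conj_le
  rw [Subgroup.map_sup]
  refine sup_le ?_ (le_trans ?_ le_sup_right)
  · rintro _ ⟨v, hv, rfl⟩
    show y * v * y⁻¹ ∈ V₀
    have h1 := inv_mem (comm_mem_inf h.norm' hyR hv.2 hy)
    have e : y * v * y⁻¹ = (v * y * v⁻¹ * y⁻¹)⁻¹ * v := by group
    rw [e]
    exact mul_mem (mem_sup_right h1) (mem_sup_left hv)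
  · rintro _ ⟨a, ⟨ha, haR⟩, rfl⟩
    show y * a * y⁻¹ ∈ Y₁
    exact Subgroup.mem_inf.2 ⟨mul_mem (mul_mem hy ha) (inv_mem hy), (mem_normalizer_iff.1 hyR a).1 haR⟩

/-- `[R, L] ≤ (Y ∩ R)(Y^g ∩ R)`. -/
theorem comm_mem_V₀ (h : AsymPair Y R L g) :
    ∀ r ∈ R, ∀ l ∈ L, r * l * r⁻¹ * l⁻¹ ∈ V₀ := by
  let K : Subgroup G :=
    { carrier := {l | l ∈ L ∧ ∀ r ∈ R, r * l * r⁻¹ * l⁻¹ ∈ V₀}
      one_mem' := ⟨one_mem _, fun r _ => by simp⟩
      mul_mem' := by
        rintro a b ⟨ha, ha'⟩ ⟨hb, hb'⟩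
        refine ⟨mul_mem ha hb, fun r hr => ?_⟩
        have h1 := (mem_normalizer_iff.1 (h.le_normalizer_V₀ ha) _).1 (hb' r hr)
        have e : r * (a * b) * r⁻¹ * (a * b)⁻¹ =
            (r * a * r⁻¹ * a⁻¹) * (a * (r * b * r⁻¹ * b⁻¹) * a⁻¹) := by group
        rw [e]
        exact mul_mem (ha' r hr) h1
      inv_mem' := by
        rintro a ⟨ha, ha'⟩
        refine ⟨inv_mem ha, fun r hr => ?_⟩
        have h1 := (mem_normalizer_iff''.1 (h.le_normalizer_V₀ ha) _).1 (inv_mem (ha' r hr))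
        have e : r * a⁻¹ * r⁻¹ * a⁻¹⁻¹ = a⁻¹ * (r * a * r⁻¹ * a⁻¹)⁻¹ * a := by group
        rw [e]
        exact h1 }
  have hL : L ≤ K := by
    rw [h.gen]
    refine sup_le (fun y hy => ⟨h.Y_le hy, fun r hr => ?_⟩)
      (fun y hy => ⟨h.Yg_le hy, fun r hr => ?_⟩)
    · exact mem_sup_left (comm_mem_inf h.norm (h.act (h.Y_le hy)) hr hy)
    · exact mem_sup_right (comm_mem_inf h.norm' (h.act (h.Yg_le hy)) hr hy)
  exact fun r hr l hl => (hL hl).2 r hr

theorem mem_centralizer_L (h : AsymPair Y R L g) {s : G} (h1 : s ∈ centralizer (Y : Set G))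
    (h2 : s ∈ centralizer (Y.map (MulAut.conj g).toMonoidHom : Set G)) :
    s ∈ centralizer (L : Set G) := by
  have hle : L ≤ centralizer ({s} : Set G) := by
    rw [h.gen]
    refine sup_le ?_ ?_ <;> intro y hy <;> rw [mem_centralizer_singleton_iff]
    · exact mem_centralizer_iff.1 h1 y hy
    · exact mem_centralizer_iff.1 h2 y hy
  exact mem_centralizer_iff.2 fun l hl => mem_centralizer_singleton_iff.1 (hle hl)

theorem exists_mul_of_mem_V₀ (h : AsymPair Y R L g) {v : G} (hv : v ∈ V₀) :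
    ∃ e ∈ Y₀, ∃ f ∈ Y₁, v = e * f := by
  have hn : Y₁ ≤ normalizer ((Y₀ : Subgroup G) : Set G) :=
    le_normalizer_inf (inf_le_right.trans h.norm) (inf_le_right.trans le_normalizer)
  rw [sup_comm] at hv
  obtain ⟨f, hf, e, he, rfl⟩ := exists_mul_of_mem_sup hn hv
  exact ⟨f * e * f⁻¹, (mem_normalizer_iff.1 (hn hf) e).1 he, f, hf, by group⟩

/-- `C_{V₀}(Y) = Y ∩ R`. -/
theorem V₀_inf_centralizer_le (h : AsymPair Y R L g) : V₀ ⊓ centralizer (Y : Set G) ≤ Y₀ := by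
  rintro v ⟨hv, hc⟩
  obtain ⟨e, he, f, hf, rfl⟩ := h.exists_mul_of_mem_V₀ hv
  have hfc : f ∈ centralizer (Y : Set G) :=
    (mul_mem_cancel_left (h.Y_le_centralizer he.1)).1 hc
  have hfL := h.mem_centralizer_L hfc
    (mem_centralizer_iff.2 fun b hb => h.comm' b hb f hf.1)
  have hfY : f ∈ Y₀ := by
    obtain ⟨w, hw, hwf⟩ := (h.Y₁_eq ▸ hf : f ∈ Subgroup.map (MulAut.conj g).toMonoidHom Y₀)
    have h1 : g * f = f * g := mem_centralizer_iff.1 hfL g h.mem
    have h2 : g * w * g⁻¹ = f := hwf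
    have h3 : w = f := by
      calc w = g⁻¹ * (g * w * g⁻¹) * g := by group
        _ = g⁻¹ * (f * g) := by rw [h2, mul_assoc]
        _ = f := by rw [← h1, inv_mul_cancel_left]
    rwa [← h3]
  exact mul_mem he hfY

/-- `C_R(Y) = (Y ∩ R) C_R(L)`. -/
theorem inf_centralizer_eq (h : AsymPair Y R L g) :
    R ⊓ centralizer (Y : Set G) = Y₀ ⊔ (R ⊓ centralizer (L : Set G)) := by
  refine le_antisymm ?_ (sup_le (le_inf inf_le_right (inf_le_left.trans h.Y_le_centralizer))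
    (le_inf inf_le_left (inf_le_right.trans (centralizer_le h.Y_le))))
  rintro x ⟨hx, hxc⟩
  have hv : x⁻¹ * g * x⁻¹⁻¹ * g⁻¹ ∈ V₀ := h.comm_mem_V₀ _ (inv_mem hx) g h.mem
  obtain ⟨e, he, f, hf, hef⟩ := h.exists_mul_of_mem_V₀ hv
  set x' := g * x * g⁻¹ with hx'
  have hxx' : x' = x * (e * f) := by rw [← hef, hx']; group
  have hx'c : x' ∈ centralizer (Y.map (MulAut.conj g).toMonoidHom : Set G) := by
    rw [← conj_centralizer]
    exact ⟨x, hxc, rfl⟩
  have hs : x * e = x' * f⁻¹ := by rw [hxx']; group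
  have hsL : x * e ∈ centralizer (L : Set G) := by
    refine h.mem_centralizer_L (mul_mem hxc (h.Y_le_centralizer he.1)) ?_
    rw [hs]
    exact mul_mem hx'c (inv_mem (mem_centralizer_iff.2 fun b hb => h.comm' b hb f hf.1))
  have e2 : x = x * e * e⁻¹ := by group
  rw [e2]
  exact mul_mem (mem_sup_right ⟨mul_mem hx he.2, hsL⟩) (mem_sup_left (inv_mem he))

/-- An element of `L` moving `Y` into `C(Y)` fixes `Y ∩ R` and `C_R(Y)`. -/
theorem conj_inf_eq (h : AsymPair Y R L g) {x : G} (hx : x ∈ L)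
    (hc : Y.map (MulAut.conj x).toMonoidHom ≤ centralizer (Y : Set G)) :
    x ∈ normalizer ((Y₀ : Subgroup G) : Set G) ∧ x ∈ normalizer ((R ⊓ centralizer (Y : Set G) : Subgroup G) :
      Set G) := by
  have h0 : x ∈ normalizer ((Y₀ : Subgroup G) : Set G) := by
    apply mem_normalizer_of_conj_le
    refine le_trans (le_inf ?_ ((Subgroup.map_mono inf_le_left).trans hc)) h.V₀_inf_centralizer_le
    exact (Subgroup.map_mono le_sup_left).trans
      (conj_eq_of_mem_normalizer (h.le_normalizer_V₀ hx)).le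
  refine ⟨h0, ?_⟩
  rw [h.inf_centralizer_eq]
  refine mem_normalizer_of_conj_le ?_
  rw [Subgroup.map_sup, conj_eq_of_mem_normalizer h0]
  refine sup_le_sup_left ?_ _
  rintro _ ⟨s, hs, rfl⟩
  show x * s * x⁻¹ ∈ _
  rw [show x * s * x⁻¹ = s by rw [mem_centralizer_iff.1 hs.2 x hx, mul_inv_cancel_right]]
  exact hs

end AsymPair

end Cfsg.Agent.LocalEvenD
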